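import Mathlib
import Cfsg.Agent.Lib.Fis.Count
import Cfsg.Agent.Lib.SylInt.Basic
import Cfsg.Agent.Lib.Gold.Base
import Cfsg.Agent.Lib.CIT.AppTI
import Cfsg.Agent.Lib.Perm.MultiTransDiag
import Cfsg.Agent.Lib.Core.MinNormal
import Cfsg.Agent.Lib.Core.Fitting

/-! Groups with `p`-nilpotent centralizers in which `N(P)` controls fusion (S3297). -/

set_option autoImplicit false
set_option linter.unusedSectionVars false

namespace CfsgLib.Fis

open Subgroup Cfsg CfsgLib.Tech CfsgLib.Transfer CfsgLib.Gold CfsgLib.Gold.Cor CfsgLib.Gold.BaseAux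

universe u

variable {G : Type u} [Group G] [Finite G] {p : ℕ} [hp : Fact p.Prime]

/-- `Ω₁(Z(P))` -/
def om (p : ℕ) (P : Subgroup G) : Subgroup G where
  carrier := {z | z ∈ P ∧ z ∈ centralizer (P : Set G) ∧ z ^ p = 1}
  one_mem' := ⟨one_mem _, one_mem _, one_pow _⟩
  mul_mem' := fun {a b} ha hb => ⟨mul_mem ha.1 hb.1, mul_mem ha.2.1 hb.2.1, by
    rw [Commute.mul_pow (hb.2.1 a ha.1), ha.2.2, hb.2.2, one_mul]⟩
  inv_mem' := fun {a} ha => ⟨inv_mem ha.1, inv_mem ha.2.1, by rw [inv_pow, ha.2.2, inv_one]⟩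

theorem exists_orderOf {H : Subgroup G} (h : p ∣ Nat.card H) : ∃ x ∈ H, orderOf x = p := by
  obtain ⟨x, hx⟩ := exists_prime_orderOf_dvd_card' p h
  exact ⟨x, x.2, by rwa [orderOf_coe]⟩

theorem hyp_of {P : Sylow p G}
    (ha : ∀ x ∈ (P : Subgroup G), ∀ y ∈ (P : Subgroup G), (∃ g : G, g * x * g⁻¹ = y) →
      ∃ n ∈ normalizer ((P : Subgroup G) : Set G), n * x * n⁻¹ = y)
    (hb : ∀ x ∈ (P : Subgroup G), orderOf x = p → HasNormalPComplement p (centralizer ({x} : Set G)))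
    {N : Subgroup G} [hN : N.Normal] (h : p ∣ Nat.card N) : Hyp P (om p P ⊓ N) where
  le := fun _ hz => hz.1.1
  ne := by
    have hS := sylow_inf_normal P N
    have h1 : (P : Subgroup G) ⊓ N ≠ ⊥ := fun e => hS.toSylow.ne_bot_of_dvd_card h (by
      rw [hS.coe_toSylow, e, bot_subgroupOf])
    have h2 := Core.inf_centralizer_ne_bot_of_isPGroup (P.isPGroup'.to_inf_left (K := N)) P.isPGroup'
      (Coprime.le_normalizer_inf le_normalizer le_normalizer_of_normal) h1
    obtain ⟨k, hk⟩ := IsPGroup.iff_card.1 ((P.isPGroup'.to_inf_left (K := N)).to_inf_left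
      (K := centralizer ((P : Subgroup G) : Set G)))
    obtain ⟨x, hx, hx1⟩ := exists_orderOf (p := p) (hk ▸ dvd_pow_self p fun e => h2 (card_eq_one.1 (by rw [hk, e, pow_zero])))
    refine fun e => hp.out.ne_one ?_
    rw [← hx1, orderOf_eq_one_iff, ← mem_bot, ← e]
    exact ⟨⟨hx.1.1, hx.2, hx1 ▸ pow_orderOf_eq_one x⟩, hx.1.2⟩
  cen := fun _ hz => hz.1.2.1
  exp := fun _ hz => hz.1.2.2
  sc := fun w hw g hg => by
    obtain ⟨n, hn, e⟩ := ha w hw.1.1 _ hg ⟨g, rfl⟩
    refine ⟨⟨hg, e ▸ ?_, by rw [conj_pow, hw.1.2.2, mul_one, mul_inv_cancel]⟩, hN.conj_mem w hw.2 g⟩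
    rw [← mem_normalizer_iff_cj.1 hn, ← cj_centralizer]
    exact conj_mem_cj.2 hw.1.2.1
  npc := fun x hx => by
    obtain ⟨g, -, hg⟩ := (IsSylowIn.of_sylow_top P).exists_conj_mem (mem_top x)
      (isPGroup_zpowers_iff.2 ⟨1, by rw [hx, pow_one]⟩)
    have := hb _ hg (by rw [← hx]; exact (MulAut.conj g).orderOf_eq x)
    rw [← cj_centralizer_singleton] at this
    exact hasNormalPComplement_of_mulEquiv this (cjEquiv g _).symm

theorem Hyp.subgroupOf {P : Sylow p G} {W M : Subgroup G} (h : Hyp P W) (hW : W ≤ M) {T : Sylow p M}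
    (hT : (T : Subgroup M) = (P : Subgroup G).subgroupOf M) : Hyp T (W.subgroupOf M) where
  le := hT ▸ fun _ hz => h.le hz
  ne := fun e => h.ne (by rwa [subgroupOf_eq_bot, disjoint_iff, inf_eq_left.2 hW] at e)
  cen := fun _ hz u hu => Subtype.ext (h.comm hz (by rw [hT] at hu; exact hu))
  exp := fun w hw => Subtype.ext (h.exp w hw)
  sc := fun w hw g hg => h.sc w hw g (by rw [hT] at hg; exact hg)
  npc := fun x hx => hasNormalPComplement_of_injective (h.npc x (by rwa [orderOf_coe]))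
    ((M.subtype.comp (Subgroup.subtype _)).codRestrict _ fun c => mem_centralizer_singleton_iff.2
      (congrArg Subtype.val (mem_centralizer_singleton_iff.1 c.2)))
    (MonoidHom.injective_codRestrict _ _ _ |>.2 (M.subtype_injective.comp (subtype_injective _)))

theorem isPGroup_of_npc (hO : pPrimeCore p G = ⊥) {K : Subgroup G} (hK : K.IsSubnormal)
    (h : HasNormalPComplement p K) : IsPGroup p K := by
  have h1 := Core.map_pPrimeCore_le_of_isSubnormal (p := p) hK
  rw [hO, le_bot_iff, map_eq_bot_iff_of_injective _ K.subtype_injective, ← pResidual_eq_pPrimeCore h] at h1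
  have h2 := isComplement'_pResidual h default
  rw [h1, isComplement'_bot_left] at h2
  exact (h2 ▸ (default : Sylow p K).isPGroup').of_equiv topEquiv

theorem simple_of_key (key : ∀ M M' : Subgroup G, M.IsSubnormal → M ≠ ⊥ → M'.IsSubnormal → M' ≠ ⊥ →
      ¬ M' ≤ centralizer (M : Set G)) {L : Subgroup G} [L.Normal] (hL : L ≠ ⊥)
    (hmin : ∀ M : Subgroup G, M.Normal → M ≤ L → M = ⊥ ∨ M = L) : IsSimpleGroup L := by
  have hsub : ∀ M : Subgroup G, M ≤ L → L ≤ normalizer (M : Set G) → M.IsSubnormal := fun M h1 h2 =>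
    IsSubnormal.step M L h1 (Normal.isSubnormal inferInstance) (normal_subgroupOf_of_le_normalizer h2)
  obtain ⟨M, hM, hM0, hML, hMmin⟩ := Core.exists_minimal_normalized_le (A := L) (K := L) le_normalizer hL
  suffices h : M = L by
    subst h
    have : Nontrivial M := (nontrivial_iff_ne_bot M).2 hL
    refine ⟨fun K hK => (hMmin (K.map M.subtype) (Core.le_normalizer_map_subtype_of_normal K)
      (map_subtype_le K)).imp (map_eq_bot_iff_of_injective K M.subtype_injective).1 fun e => ?_⟩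
    apply map_injective M.subtype_injective
    rw [e, ← MonoidHom.range_eq_map, range_subtype]
  refine (hmin M (normalizer_eq_top_iff.1 (eq_top_iff.2 fun g _ => ?_)) hML).resolve_left hM0
  have hLn : L ≤ normalizer (cj g M : Set G) := by
    rw [← cj_normalizer, ← cj_eq_of_normal g L]; exact cj_mono g hM
  have hLe : cj g M ≤ L := cj_eq_of_normal g L ▸ cj_mono g hML
  rcases hMmin _ (Coprime.le_normalizer_inf hM hLn) inf_le_left with e | e
  · exact absurd (Core.le_centralizer_of_le_normalizer_of_disjoint (hLe.trans hM) (hML.trans hLn)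
      (by rw [inf_comm, e])) (key _ _ (hsub _ hML hM) hM0 (hsub _ hLe hLn) (by rwa [Ne, cj_eq_bot_iff]))
  · exact mem_normalizer_iff_cj.2 (eq_of_le_of_card_ge (inf_eq_left.1 e) (card_cj g M).le).symm

theorem two (hA : All.{u}) {P : Sylow 2 G} {W M : Subgroup G} [M.Normal] [IsSimpleGroup M]
    (hn : ¬ IsMulCommutative M) (hC : centralizer (M : Set G) = ⊥) (h : Hyp P W) (hW : W ≤ M)
    (hd : ¬ (IsElementaryAbelian 2 (P : Subgroup G) ∧
      ∀ x ∈ (P : Subgroup G), ∀ y ∈ (P : Subgroup G), x ≠ 1 → y ≠ 1 → ∃ g : G, g * x * g⁻¹ = y)) :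
    Lie.IsoSuzuki G := by
  obtain ⟨T, hT⟩ := exists_sylow_subgroupOf_normal P M
  have mT : ∀ t : M, t ∈ (T : Subgroup M) ↔ (t : G) ∈ (P : Subgroup G) := fun t => by rw [hT]; rfl
  have h' := h.subgroupOf hW hT
  have hsc : HasSC M := hasSC_of T h'.ne ⟨⟨fun a b => Subtype.ext (h'.comm b.2 (h'.le a.2))⟩⟩ ⟨h'.le, h'.sc⟩
  have hg : GT M := (hA.inp M).gt inferInstance hn hsc
  have hV := hg.omega_le T h'.le h'.ne h'.NP_le
  have inn : ∀ (g : G) (t : M), MulAut.conjNormal g = MulAut.conj t → g = t := fun g t e => by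
    refine (inv_mul_eq_one.1 (mem_bot.1 (hC ▸ mem_centralizer_iff.2 fun m hm => ?_))).symm
    have e1 : g * m * g⁻¹ = t * m * (t : G)⁻¹ := congrArg (fun φ : MulAut M => (φ ⟨m, hm⟩ : G)) e
    calc m * ((t : G)⁻¹ * g) = (t : G)⁻¹ * (t * m * (t : G)⁻¹) * g := by group
      _ = _ := by rw [← e1]; group
  have fix : ∀ g : G, ∀ v : M, g * v = v * g → MulAut.conjNormal g v = v := fun g v e =>
    Subtype.ext (mul_inv_eq_iff_eq_mul.2 e)
  have conj : ∀ x y : M, x * x = 1 → x ≠ 1 → y * y = 1 → y ≠ 1 → ∃ m : M, (m : G) * x * (m : G)⁻¹ = y :=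
    fun x y h1 h2 h3 h4 => (hg.exists_conj (orderOf_eq_two h1 h2) (orderOf_eq_two h3 h4)).imp
      fun _ e => congrArg Subtype.val e
  by_cases hab : IsMulCommutative (T : Subgroup M)
  · have e := hg.nab T hab
    have hP : ∀ u ∈ (P : Subgroup G), ∃ t : M, t * t = 1 ∧ u = t := fun u hu => by
      obtain ⟨k, hk⟩ := isPGroup_iff_mem.1 P.isPGroup' u hu
      have h2 : ∀ v ∈ omegaOne 2 (T : Subgroup M), MulAut.conjNormal u v = v := fun v hv =>
        fix u v (h.comm (hV hv) hu)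
      obtain ⟨t, ht, e1⟩ := hg.inner T (φ := MulAut.conjNormal u) (k := k) (by rw [← map_pow, hk, map_one])
        (fun t ht => by rw [h2 t (e.ge ht), mul_inv_cancel]; exact one_mem _) h2
      exact ⟨t, ((hg.mem_omega T).1 (e.ge ht)).2, inn u t e1⟩
    have h2 : ∀ u ∈ (P : Subgroup G), u * u = 1 := fun u hu => by
      obtain ⟨t, ht, rfl⟩ := hP u hu
      exact congrArg Subtype.val ht
    refine (hd ⟨⟨comm_of_elem h2, fun u hu => (sq u).trans (h2 u hu)⟩, fun x hx y hy x1 y1 => ?_⟩).elim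
    obtain ⟨x, h3, rfl⟩ := hP x hx
    obtain ⟨y, h4, rfl⟩ := hP y hy
    obtain ⟨m, hm⟩ := conj x y h3 (fun e => x1 (by rw [e]; rfl)) h4 fun e => y1 (by rw [e]; rfl)
    exact ⟨m, hm⟩
  have hB : BType M := hg.resolve_right fun hA => hab (hA.good.ab2 T)
  have hz : ∀ z ∈ W, z ≠ 1 → centralizer {z} = (P : Subgroup G) := fun z hz h1 => by
    refine P.is_maximal' (isPGroup_iff_mem.2 fun x hx => ?_) (h.le_C hz)
    obtain ⟨k, m, hm, e⟩ := Nat.exists_eq_two_pow_mul_odd (orderOf_pos x).ne'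
    have ho : Odd (orderOf (x ^ 2 ^ k)) := hm.of_dvd_nat (orderOf_dvd_of_pow_eq_one (by
      rw [← pow_mul, ← e, pow_orderOf_eq_one]))
    have hy := pow_mem hx (2 ^ k)
    refine ⟨k, ?_⟩
    generalize x ^ 2 ^ k = y at ho hy
    have zT : (⟨z, hW hz⟩ : M) ∈ (T : Subgroup M) := (mT _).2 (h.le hz)
    have h2 := hB.smul_eq T (φ := MulAut.conjNormal y) zT (fun e => h1 (congrArg Subtype.val e))
      (by rwa [fix y _ (mem_centralizer_singleton_iff.1 hy)])
    have h3 := mem_centralizer_of_hasNormalPComplement (h.npc z (h.ord hz h1)) (P.isPGroup'.to_inf_left (K := M))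
      (inf_le_left.trans (h.le_C hz)) hy (mem_normalizer_of_forall fun t ht =>
        ⟨(mT _).1 (h2 ⟨t, ht.2⟩ ((mT _).2 ht.1)), Normal.conj_mem inferInstance t ht.2 y⟩)
      (Nat.coprime_two_right.2 ho)
    exact inn y 1 ((hB.rigid T (ho.of_dvd_nat (orderOf_map_dvd _ y)) fun t ht =>
      fix y t (h3 t ⟨(mT t).1 ht, t.2⟩).symm).trans (map_one _).symm)
  obtain ⟨⟨z, zW⟩, z1⟩ := ne_bot_iff_exists_ne_one.1 h.ne
  replace z1 : z ≠ 1 := fun e => z1 (Subtype.ext e)
  have cm : ∀ t : M, MulAut.conjNormal (t : G) = MulAut.conj t := fun t => by ext; rfl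
  have hPM : (P : Subgroup G) ≤ M := fun u hu => by
    obtain ⟨t, -, e⟩ := SylInt.inner_of_norm hg T (P.isPGroup'.map MulAut.conjNormal)
      (by rintro _ ⟨t, ht, rfl⟩; exact ⟨t, (mT t).1 ht, cm t⟩)
      (by rintro _ ⟨g, hg, rfl⟩ t ht; exact (mT _).2 (mul_mem (mul_mem hg ((mT t).1 ht)) (inv_mem hg)))
      (fun n hn => cm n ▸ le_normalizer_map _ (mem_map_of_mem _ (mem_normalizer_iff_cj.2 (by
        rw [← hz z zW z1, cj_centralizer_singleton, hz z zW z1]
        exact hz _ (conj_mem_of_mem_normalizer (h'.NP_le hn) (x := ⟨z, hW zW⟩) zW) (conj_ne_one _ z1)))))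
      (mem_map_of_mem _ hu)
    exact inn u t e ▸ t.2
  have z2 : z * z = 1 := (sq z).symm.trans (h.exp z zW)
  have hcj : ∀ x : M, x * x = 1 → x ≠ 1 → ∃ m : M, (m : G) * x * (m : G)⁻¹ = z := fun x h1 h2 =>
    conj x ⟨z, hW zW⟩ h1 h2 (Subtype.ext z2) fun e => z1 (congrArg Subtype.val e)
  have hM : M = ⊤ := eq_top_iff.2 fun g _ => by
    obtain ⟨m, hm⟩ := hcj ⟨g * z * g⁻¹, Normal.conj_mem inferInstance z (hW zW) g⟩
      (Subtype.ext (show g * z * g⁻¹ * (g * z * g⁻¹) = 1 by rw [conj_mul, z2, mul_one, mul_inv_cancel])) fun e => conj_ne_one g z1 (congrArg Subtype.val e)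
    have : (m : G) * g ∈ centralizer {z} := mem_centralizer_singleton_iff.2 (by
      rw [← mul_inv_eq_iff_eq_mul]; simpa only [mul_assoc, mul_inv_rev] using hm)
    exact (mul_mem_cancel_left m.2).1 (hPM (hz z zW z1 ▸ this))
  rcases known hA hn hsc with hL | ⟨F, _, _, m, h1, h2, ⟨e⟩⟩ | hL | hL
  · refine (hab (comm_of_elem fun t ht => ?_)).elim
    obtain ⟨k, hk⟩ := isPGroup_zpowers_iff.1 (isPGroup_zpowers_of_mem T.isPGroup' ht)
    rw [← sq, ← orderOf_dvd_iff_pow_eq_one]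
    rcases k with _ | k
    · rw [hk]; exact one_dvd 2
    · rw [CIT.App.l2even_even hL ⟨t, rfl⟩ (by rw [hk, pow_succ]; exact Nat.even_mul.2 (Or.inr even_two))]
  · exact ⟨F, _, _, m, h1, h2, ⟨((MulEquiv.subgroupCongr hM).trans topEquiv).symm.trans e⟩⟩
  · refine (CIT.App.not_cit_of_u3 hL fun x hx => isPGroup_iff_mem.2 fun c hc => ?_).elim
    obtain ⟨m, hm⟩ := hcj x (by rw [← sq, ← hx, pow_orderOf_eq_one]) fun e => by simp [e] at hx
    have : (m : G) * c * (m : G)⁻¹ ∈ centralizer {z} := by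
      rw [← hm, ← cj_centralizer_singleton]
      exact conj_mem_cj.2 (mem_centralizer_singleton_iff.2 (congrArg Subtype.val (mem_centralizer_singleton_iff.1 hc)))
    obtain ⟨k, hk⟩ := isPGroup_iff_mem.1 P.isPGroup' _ (hz z zW z1 ▸ this)
    exact ⟨k, Subtype.ext (by rwa [conj_pow, conj_eq_one_iff] at hk)⟩
  · exact (hab (hL.1 T)).elim

theorem s3297 (hA : All.{u}) (hO : pPrimeCore p G = ⊥) (P : Sylow p G) (hnn : ¬ (P : Subgroup G).Normal)
    (ha : ∀ x ∈ (P : Subgroup G), ∀ y ∈ (P : Subgroup G), (∃ g : G, g * x * g⁻¹ = y) →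
      ∃ n ∈ normalizer ((P : Subgroup G) : Set G), n * x * n⁻¹ = y)
    (hb : ∀ x ∈ (P : Subgroup G), orderOf x = p → HasNormalPComplement p (centralizer ({x} : Set G)))
    (hc : ∀ x y : G, orderOf x = p → orderOf y = p → IsPSolvable p (closure ({x, y} : Set G)))
    (hd : ¬ (p = 2 ∧ IsElementaryAbelian 2 (P : Subgroup G) ∧
      ∀ x ∈ (P : Subgroup G), ∀ y ∈ (P : Subgroup G), x ≠ 1 → y ≠ 1 → ∃ g : G, g * x * g⁻¹ = y)) :
    p = 2 ∧ Lie.IsoSuzuki G := by
  have hdvd : ∀ M : Subgroup G, M.IsSubnormal → M ≠ ⊥ → p ∣ Nat.card M := fun M h1 h2 => by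
    by_contra h
    exact h2 (le_bot_iff.1 (hO ▸ Core.le_pPrimeCore_of_isSubnormal h1
      ((Nat.Prime.coprime_iff_not_dvd hp.out).2 h).symm))
  have hQ : pCore p G = ⊥ := by
    by_contra h
    have H := hyp_of ha hb (hdvd _ (Normal.isSubnormal inferInstance) h)
    have : (om p P ⊓ pCore p G).Normal := ⟨fun w hw g => H.sc w hw g
      (Core.pCore_le_sylow P (Normal.conj_mem inferInstance w hw.2 g))⟩
    exact hnn (P.is_maximal' (isPGroup_of_npc hO (Normal.isSubnormal inferInstance) H.npcW) H.le_CW ▸ inferInstance)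
  have h0 : (⊤ : Subgroup G) ≠ ⊥ := fun e => hnn (by
    rw [le_bot_iff.1 (e ▸ le_top : (P : Subgroup G) ≤ ⊥)]; infer_instance)
  obtain ⟨M, _, hM, -, hmin⟩ := Core.exists_minimal_normal_le h0
  have hpM := hdvd M (Normal.isSubnormal inferInstance) hM
  have H := hyp_of ha hb hpM
  have key : ∀ M M' : Subgroup G, M.IsSubnormal → M ≠ ⊥ → M'.IsSubnormal → M' ≠ ⊥ →
      ¬ M' ≤ centralizer (M : Set G) := fun M M' h1 h2 h3 h4 h5 => by
    obtain ⟨x, hx, e⟩ := exists_orderOf (hdvd M h1 h2)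
    exact h4 (le_bot_iff.1 (hQ ▸ Core.le_pCore_of_isSubnormal h3 (isPGroup_of_npc hO h3
      (hasNormalPComplement_of_le (H.npc x e) (h5.trans (centralizer_le_of_mem hx))))))
  have := simple_of_key key hM hmin
  have hC : centralizer (M : Set G) = ⊥ := by
    by_contra h
    exact key M _ (Normal.isSubnormal inferInstance) hM (Normal.isSubnormal inferInstance) h le_rfl
  have hn : ¬ IsMulCommutative M := fun _ => hM (le_bot_iff.1 (hC ▸ le_centralizer M))
  obtain rfl : p = 2 := by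
    by_contra h2
    obtain ⟨T, hT⟩ := exists_sylow_subgroupOf_normal P M
    have H' := H.subgroupOf inf_le_right hT
    refine Perm.not_hasNormalPComplement_of_isSimpleGroup hn hpM (H'.npc_of_odd (fun x y hx hy => ?_) h2
      fun N hN h => hN.eq_bot_or_eq_top.resolve_left fun e => H'.ne (le_bot_iff.1 (e ▸ h)))
    have := hc x y (by rwa [orderOf_coe]) (by rwa [orderOf_coe])
    rw [← show (closure {x, y}).map M.subtype = closure {(x : G), (y : G)} by
      rw [MonoidHom.map_closure, Set.image_pair]; rfl] at this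
    exact PLocal.PSolv.of_equiv this (equivMapOfInjective _ _ M.subtype_injective).symm
  exact ⟨rfl, two hA hn hC H inf_le_right fun h => hd ⟨rfl, h⟩⟩

end CfsgLib.Fis
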